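import Groth.Agent.BertiniAff.Main
import Groth.Agent.ForSys.Bertini

/-!
# Bertini theorems on an affine piece with coordinates
-/

set_option autoImplicit false

universe u

namespace Groth.Agent.BertiniZero

open TensorProduct KaehlerDifferential

variable {k : Type u} [Field k]

/-- A family none of whose generic points lies over the generic parameter avoids a general parameter. -/
theorem exists_poly_of_incidence {R C : Type u} [CommRing R] [IsDomain R] [CommRing C] [IsNoetherianRing C]
    (φ : R →+* C) (I : Ideal C) (h : ∀ q : Ideal C, q.IsPrime → I ≤ q → ∃ f, f ≠ 0 ∧ φ f ∈ q) :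
    ∃ g : R, g ≠ 0 ∧ ∀ q : Ideal C, q.IsPrime → I ≤ q → φ g ∈ q := by
  classical
  choose f hf0 hf using fun q : I.minimalPrimes => h q.1 q.2.1.1 q.2.1.2
  haveI := (Ideal.finite_minimalPrimes_of_isNoetherianRing _ I).fintype
  refine ⟨∏ q, f q, Finset.prod_ne_zero_iff.mpr fun q _ => hf0 q, fun q hq hIq => ?_⟩
  haveI := hq
  obtain ⟨Q, hQ, hQq⟩ := Ideal.exists_minimalPrimes_le hIq
  rw [map_prod, ← Finset.mul_prod_erase Finset.univ _ (Finset.mem_univ (⟨Q, hQ⟩ : I.minimalPrimes))]
  exact q.mul_mem_right _ (hQq (hf ⟨Q, hQ⟩))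

/-- If incidences have small generic points then a general member has no singular zero. -/
theorem exists_poly_piece {B : Type u} [CommRing B] [Algebra k B] [Algebra.FiniteType k B] {m d : ℕ}
    (g₀ : B) (g : Fin m → B) (b : Module.Basis (Fin d) B Ω[B⁄k])
    (h : ∀ (L : Type u) [Field L] [Algebra k L] [Algebra.EssFiniteType k L] (ι : B →ₐ[k] L) (x : Fin m → L),
      (ι g₀ + ∑ i, x i * ι (g i) = 0) →
      (∀ t, ι (b.repr (D k B g₀) t) + ∑ i, x i * ι (b.repr (D k B (g i)) t) = 0) →
      ¬ AlgebraicIndependent k x) :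
    ∃ p : MvPolynomial (Fin m) k, p ≠ 0 ∧ ∀ a : Fin m → k, MvPolynomial.eval a p ≠ 0 →
      ∀ P : Ideal B, P.IsPrime → g₀ + ∑ i, algebraMap k B (a i) * g i ∈ P →
        ∃ t, b.repr (D k B (g₀ + ∑ i, algebraMap k B (a i) * g i)) t ∉ P := by
  classical
  haveI : IsNoetherianRing B := Algebra.FiniteType.isNoetherianRing k B
  let C := MvPolynomial (Fin m) B
  let φ : MvPolynomial (Fin m) k →+* C := MvPolynomial.map (algebraMap k B)
  let E : Option (Fin d) → C := fun o => match o with
    | none => MvPolynomial.C g₀ + ∑ i, MvPolynomial.X i * MvPolynomial.C (g i)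
    | some t => MvPolynomial.C (b.repr (D k B g₀) t) +
        ∑ i, MvPolynomial.X i * MvPolynomial.C (b.repr (D k B (g i)) t)
  obtain ⟨p, hp0, hp⟩ := exists_poly_of_incidence φ (Ideal.span (Set.range E)) (by
    intro q hq hIq
    haveI := hq
    let L := FractionRing (C ⧸ q)
    let π : C →ₐ[k] L := (IsScalarTower.toAlgHom k (C ⧸ q) L).comp (Ideal.Quotient.mkₐ k q)
    have hπ : ∀ c, π c = 0 ↔ c ∈ q := fun c => by
      show algebraMap (C ⧸ q) L (Ideal.Quotient.mk q c) = 0 ↔ _
      rw [map_eq_zero_iff _ (IsFractionRing.injective (C ⧸ q) L), Ideal.Quotient.eq_zero_iff_mem]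
    have hE : ∀ o, π (E o) = 0 := fun o => (hπ _).mpr (hIq (Ideal.subset_span ⟨o, rfl⟩))
    have hnot := h L (π.comp (IsScalarTower.toAlgHom k B C)) (fun i => π (MvPolynomial.X i))
      (by simpa [E, C] using hE none) (fun t => by simpa [E, C] using hE (some t))
    rw [algebraicIndependent_iff] at hnot
    push Not at hnot
    obtain ⟨f, hf, hf0⟩ := hnot
    refine ⟨f, hf0, (hπ _).mp ?_⟩
    rw [← hf]
    refine DFunLike.congr_fun (show π.toRingHom.comp φ = (MvPolynomial.aeval fun i => π (MvPolynomial.X i) :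
      MvPolynomial (Fin m) k →ₐ[k] L).toRingHom from MvPolynomial.ringHom_ext (fun r => ?_) fun i => ?_) f
    · show π (φ (MvPolynomial.C r)) = MvPolynomial.aeval _ (MvPolynomial.C r)
      rw [MvPolynomial.aeval_C]
      rw [show φ (MvPolynomial.C r) = MvPolynomial.C (algebraMap k B r) from MvPolynomial.map_C _ _]
      exact π.commutes r
    · show π (φ (MvPolynomial.X i)) = MvPolynomial.aeval _ (MvPolynomial.X i)
      rw [MvPolynomial.aeval_X, show φ (MvPolynomial.X i) = MvPolynomial.X i from MvPolynomial.map_X _ _])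
  refine ⟨p, hp0, fun a ha P hP hmem => ?_⟩
  by_contra hcon
  push Not at hcon
  haveI := hP
  let ev : C →+* B ⧸ P := (Ideal.Quotient.mk P).comp (MvPolynomial.eval fun i => algebraMap k B (a i))
  have hker : Ideal.span (Set.range E) ≤ RingHom.ker ev := Ideal.span_le.mpr (by
    rintro _ ⟨o, rfl⟩
    rw [SetLike.mem_coe, RingHom.mem_ker]
    show Ideal.Quotient.mk P (MvPolynomial.eval _ (E o)) = 0
    rw [Ideal.Quotient.eq_zero_iff_mem]
    rcases o with _ | t
    · simpa [E] using hmem
    · have := hcon t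
      simp only [map_add, map_sum, Derivation.leibniz, Derivation.map_algebraMap, smul_zero, add_zero, map_smul,
        Finsupp.coe_add, Pi.add_apply, Finsupp.finsetSum_apply, Finsupp.smul_apply, smul_eq_mul] at this
      simpa [E] using this)
  have h1 := hp _ (RingHom.ker_isPrime ev) hker
  rw [RingHom.mem_ker] at h1
  refine ha ?_
  have h2 : (Ideal.Quotient.mk P) (algebraMap k B (MvPolynomial.eval a p)) = 0 := by
    rw [← h1]
    show _ = Ideal.Quotient.mk P (MvPolynomial.eval (fun i => algebraMap k B (a i)) (MvPolynomial.map (algebraMap k B) p))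
    rw [MvPolynomial.eval_map]
    exact congrArg _ (MvPolynomial.eval₂_comp (algebraMap k B) a p)
  exact (map_eq_zero ((Ideal.Quotient.mk P).comp (algebraMap k B))).mp h2

/-- A linear system with spanning columns determines as many unknowns as it has rows. -/
theorem exists_solved_affine {k L : Type u} [Field k] [Field L] [Algebra k L] {Ω ρ : Type u} [Fintype Ω] [Fintype ρ]
    (col : Ω → ρ → L) (v : ρ → L) (c : Ω → L) (hspan : Submodule.span L (Set.range col) = ⊤)
    (hc : v + ∑ b, c b • col b = 0) :
    ∃ S : Finset Ω, S.card = Fintype.card ρ ∧ ∀ F : IntermediateField k L, (∀ b r, col b r ∈ F) → (∀ r, v r ∈ F) →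
      (∀ b, b ∉ S → c b ∈ F) → ∀ b, c b ∈ F := by
  classical
  obtain ⟨B, hBsub, hBspan, hBlin⟩ := exists_linearIndependent L (Set.range col)
  rw [hspan] at hBspan
  let Bb := Module.Basis.mk hBlin (by rw [Subtype.range_coe, hBspan])
  haveI : Finite B := ((Set.finite_range col).subset hBsub).to_subtype
  haveI : Fintype B := Fintype.ofFinite _
  choose pre hpre using fun y : B => hBsub y.2
  have hpre_inj : Function.Injective pre := fun y z h => Subtype.ext (by rw [← hpre y, ← hpre z, h])
  refine ⟨Finset.univ.image pre, ?_, fun F hF hv hcF b => ?_⟩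
  · rw [Finset.card_image_of_injective _ hpre_inj, Finset.card_univ, ← Module.finrank_eq_card_basis Bb,
      Module.finrank_pi]
  by_cases hb : b ∈ Finset.univ.image pre
  swap
  · exact hcF b hb
  obtain ⟨y₀, -, rfl⟩ := Finset.mem_image.mp hb
  let w : B → ρ → F := fun y r => ⟨col (pre y) r, hF _ r⟩
  have hw : LinearIndependent F w := by
    have h1 : LinearIndependent F fun y : B => (y : ρ → L) := hBlin.restrict_scalars (by
      intro a b hab
      simp only [Algebra.smul_def, mul_one] at hab
      exact Subtype.val_injective hab)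
    rw [Fintype.linearIndependent_iff] at h1 ⊢
    intro g hg
    refine h1 g (funext fun r => ?_)
    have h3 := congrArg (Subtype.val : F → L) (congrFun hg r)
    simp only [Finset.sum_apply, Pi.smul_apply, Pi.zero_apply] at h3 ⊢
    rw [AddSubmonoidClass.coe_finsetSum] at h3
    refine Eq.trans (Finset.sum_congr rfl fun y _ => ?_) h3
    rw [Algebra.smul_def, ← congrFun (hpre y) r]
    rfl
  let rest : ρ → F := fun r => ⟨-v r - ∑ b ∈ (Finset.univ.image pre)ᶜ, c b * col b r,
    sub_mem (neg_mem (hv r)) (sum_mem fun b hb => mul_mem (hcF b (Finset.mem_compl.mp hb)) (hF b r))⟩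
  have htop : Submodule.span F (Set.range w) = ⊤ :=
    hw.span_eq_top_of_card_eq_finrank' (by rw [Module.finrank_pi, ← Module.finrank_eq_card_basis Bb, Module.finrank_pi])
  obtain ⟨e, he⟩ := (Submodule.mem_span_range_iff_exists_fun F).mp (htop ▸ Submodule.mem_top : rest ∈ Submodule.span F (Set.range w))
  have hzero : ∑ y : B, ((e y : L) - c (pre y)) • (y : ρ → L) = 0 := by
    funext r
    have h1 := congrArg (Subtype.val : F → L) (congrFun he r)
    simp only [Finset.sum_apply, Pi.smul_apply, Pi.zero_apply, smul_eq_mul] at h1 ⊢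
    rw [AddSubmonoidClass.coe_finsetSum] at h1
    have h2 := congrFun hc r
    simp only [Pi.add_apply, Finset.sum_apply, Pi.smul_apply, Pi.zero_apply, smul_eq_mul] at h2
    rw [← Finset.sum_add_sum_compl (Finset.univ.image pre), Finset.sum_image hpre_inj.injOn] at h2
    simp only [sub_mul, Finset.sum_sub_distrib]
    have h1' : ∑ y : B, (e y : L) * (y : ρ → L) r = -v r - ∑ b ∈ (Finset.univ.image pre)ᶜ, c b * col b r := by
      refine Eq.trans (Finset.sum_congr rfl fun y _ => ?_) h1
      rw [← congrFun (hpre y) r]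
      rfl
    have h2' : ∑ y : B, c (pre y) * (y : ρ → L) r = ∑ y : B, c (pre y) * col (pre y) r :=
      Finset.sum_congr rfl fun y _ => by rw [hpre y]
    rw [h1', h2']
    linear_combination -h2
  have := Fintype.linearIndependent_iff.mp hBlin _ hzero y₀
  rw [← sub_eq_zero.mp this]
  exact (e y₀).2

/-- The columns of first-order jets generate if the sections generate the jets at every closed point. -/
theorem span_jets_eq_top [IsAlgClosed k] {B : Type u} [CommRing B] [Algebra k B] [Algebra.FiniteType k B]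
    {m d : ℕ} {z : Fin d → B} (b : Module.Basis (Fin d) B Ω[B⁄k]) (hb : ∀ t, b t = D k B (z t)) (g : Fin m → B)
    (hjet : ∀ P : Ideal B, P.IsMaximal → ∀ a : B, ∃ c : Fin m → k, a - ∑ i, algebraMap k B (c i) * g i ∈ P ^ 2) :
    Submodule.span B (Set.range fun (i : ULift.{u} (Fin m)) (o : ULift.{u} (Option (Fin d))) =>
      o.down.elim (g i.down) fun t => b.repr (D k B (g i.down)) t) = ⊤ := by
  classical
  let col : ULift.{u} (Fin m) → ULift.{u} (Option (Fin d)) → B := fun i o =>
    o.down.elim (g i.down) fun t => b.repr (D k B (g i.down)) t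
  let N := Submodule.span B (Set.range col)
  show N = ⊤
  let J : B → ULift.{u} (Option (Fin d)) → B := fun a o => o.down.elim a fun t => b.repr (D k B a) t
  by_contra hne
  obtain ⟨P, hP, hNP⟩ : ∃ P : Ideal B, P.IsMaximal ∧ ∀ r, r ∈ N.colon (Set.univ : Set _) → r ∈ P := by
    refine (Ideal.exists_le_maximal (N.colon (Set.univ : Set _)) fun h => hne ?_).imp fun P hP => ⟨hP.1, fun r hr => hP.2 hr⟩
    refine eq_top_iff.mpr fun x _ => ?_
    have h1 := Submodule.mem_colon.mp (h.symm ▸ Submodule.mem_top : (1 : B) ∈ N.colon (Set.univ : Set _)) x (Set.mem_univ x)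
    rwa [one_smul] at h1
  have hsq : ∀ a ∈ P ^ 2, ∀ o, J a o ∈ P := by
    intro a ha o
    rw [pow_two] at ha
    induction ha using Submodule.mul_induction_on' with
    | mem_mul_mem x hx y hy =>
      rcases o with ⟨_ | t⟩
      · exact P.mul_mem_left _ hy
      · show b.repr (D k B (x * y)) t ∈ P
        rw [Derivation.leibniz, map_add, map_smul, map_smul]
        exact P.add_mem (P.mul_mem_right _ hx) (P.mul_mem_right _ hy)
    | add x _ y _ hx hy =>
      rcases o with ⟨_ | t⟩
      · exact P.add_mem hx hy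
      · show b.repr (D k B (x + y)) t ∈ P
        rw [map_add, map_add]
        exact P.add_mem hx hy
  let PM : Submodule B (ULift.{u} (Option (Fin d)) → B) := Submodule.pi Set.univ fun _ => P
  have hJ : ∀ a, J a ∈ N ⊔ PM := by
    intro a
    obtain ⟨c, hc⟩ := hjet P hP a
    have h1 : J a = (∑ i, algebraMap k B (c i) • col ⟨i⟩) + J (a - ∑ i, algebraMap k B (c i) * g i) := by
      funext ⟨o⟩
      rcases o with _ | t
      · simp only [J, col, Pi.add_apply, Finset.sum_apply, Pi.smul_apply, Option.elim, smul_eq_mul]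
        ring
      · simp only [J, col, Pi.add_apply, Finset.sum_apply, Pi.smul_apply, Option.elim, smul_eq_mul, map_sub, map_sum,
          Derivation.leibniz, Derivation.map_algebraMap, smul_zero, add_zero, map_smul, Finsupp.coe_sub, Pi.sub_apply,
          Finsupp.finsetSum_apply, Finsupp.smul_apply]
        ring
    rw [h1]
    exact Submodule.add_mem_sup (Submodule.sum_mem _ fun i _ => Submodule.smul_mem _ _ (Submodule.subset_span ⟨⟨i⟩, rfl⟩))
      (fun o _ => hsq _ hc o)
  haveI := hP
  letI := Ideal.Quotient.field P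
  haveI := finite_of_finite_type_of_isJacobsonRing k (B ⧸ P)
  have hres : ∀ y : B, ∃ c : k, y - algebraMap k B c ∈ P := fun y => by
    obtain ⟨c, hc⟩ := (IsAlgClosed.algebraMap_bijective_of_isIntegral (k := k) (K := B ⧸ P)).2 (Ideal.Quotient.mk P y)
    exact ⟨c, by rw [← Ideal.Quotient.eq_zero_iff_mem, map_sub, ← hc, Ideal.Quotient.mk_algebraMap, sub_self]⟩
  choose cst hcst using hres
  have htop : N ⊔ PM = ⊤ := by
    rw [eq_top_iff, ← (Pi.basisFun B _).span_eq, Submodule.span_le]
    rintro _ ⟨⟨o⟩, rfl⟩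
    rw [SetLike.mem_coe, Pi.basisFun_apply]
    rcases o with _ | t
    · convert hJ 1 using 1
      funext ⟨o⟩
      rcases o with _ | t' <;> simp [J]
    · have h1 := Submodule.sub_mem _ (hJ (z t - algebraMap k B (cst (z t))))
        (Submodule.mem_sup_right (S := N) (T := PM) (fun o _ => show
          (Pi.single (⟨none⟩ : ULift.{u} (Option (Fin d))) (z t - algebraMap k B (cst (z t))) : _ → B) o ∈ P by
            by_cases ho : o = ⟨none⟩
            · subst ho; rw [Pi.single_eq_same]; exact hcst _
            · rw [Pi.single_eq_of_ne ho]; exact P.zero_mem))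
      convert h1 using 1
      funext ⟨o⟩
      rcases o with _ | t'
      · simp [J]
      · simp [J, Pi.single_apply, map_sub, ← hb, Finsupp.single_apply, eq_comm]
  -- Nakayama
  obtain ⟨r, hr1, hr⟩ := Submodule.exists_sub_one_mem_and_smul_le_of_fg_of_le_sup (N := N) (N' := ⊤) (P := ⊤) (I := P)
    (Module.finite_def.mp inferInstance) le_rfl (by
      refine le_trans htop.ge (sup_le_sup le_rfl fun x hx => ?_)
      rw [← (Pi.basisFun B _).sum_repr x]
      exact Submodule.sum_mem _ fun o _ => Submodule.smul_mem_smul (by simpa using hx o (Set.mem_univ o)) trivial)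
  refine hP.ne_top ((Ideal.eq_top_iff_one P).mpr ?_)
  have hrP : r ∈ P := hNP r (Submodule.mem_colon.mpr fun x _ => hr (Submodule.smul_mem_pointwise_smul x r ⊤ trivial))
  have := P.sub_mem hrP hr1
  simpa using this

theorem not_algebraicIndependent_jets [IsAlgClosed k] {B : Type u} [CommRing B] [Algebra k B] [Algebra.Smooth k B]
    {m d : ℕ} {z : Fin d → B} (b : Module.Basis (Fin d) B Ω[B⁄k]) (hb : ∀ t, b t = D k B (z t)) (g₀ : B) (g : Fin m → B)
    (hjet : ∀ P : Ideal B, P.IsMaximal → ∀ a : B, ∃ c : Fin m → k, a - ∑ i, algebraMap k B (c i) * g i ∈ P ^ 2)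
    {L : Type u} [Field L] [Algebra k L] (ι : B →ₐ[k] L) (x : Fin m → L)
    (h0 : ι g₀ + ∑ i, x i * ι (g i) = 0)
    (h1 : ∀ t, ι (b.repr (D k B g₀) t) + ∑ i, x i * ι (b.repr (D k B (g i)) t) = 0) :
    ¬ AlgebraicIndependent k x := by
  classical
  intro hx
  let col : ULift.{u} (Fin m) → ULift.{u} (Option (Fin d)) → B := fun i o =>
    o.down.elim (g i.down) fun t => b.repr (D k B (g i.down)) t
  let colL : ULift.{u} (Fin m) → ULift.{u} (Option (Fin d)) → L := fun i o => ι (col i o)
  let v : ULift.{u} (Option (Fin d)) → L := fun o => ι (o.down.elim g₀ fun t => b.repr (D k B g₀) t)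
  have hspan : Submodule.span L (Set.range colL) = ⊤ := by
    rw [eq_top_iff, ← (Pi.basisFun L _).span_eq, Submodule.span_le]
    rintro _ ⟨o, rfl⟩
    have h2 : (Pi.single o (1 : B)) ∈ Submodule.span B (Set.range col) := by
      rw [span_jets_eq_top b hb g hjet]; trivial
    rw [Submodule.mem_span_range_iff_exists_fun] at h2
    obtain ⟨e, he⟩ := h2
    rw [SetLike.mem_coe, Submodule.mem_span_range_iff_exists_fun]
    refine ⟨fun i => ι (e i), funext fun o' => ?_⟩
    have h3 := congrArg ι (congrFun he o')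
    simp only [Finset.sum_apply, Pi.smul_apply, smul_eq_mul, map_sum, map_mul] at h3 ⊢
    rw [h3, Pi.basisFun_apply, Pi.single_apply, Pi.single_apply, apply_ite ι, map_one, map_zero]
  obtain ⟨S, hScard, hS⟩ := exists_solved_affine (k := k) colL v (fun i => x i.down) hspan (funext fun ⟨o⟩ => by
    rw [Pi.add_apply, Finset.sum_apply, Pi.zero_apply]
    rw [← Equiv.ulift.symm.sum_comp]
    rcases o with _ | t
    · exact h0
    · exact h1 t)
  -- algebraic dependence of the image of `B` on `d` elements
  haveI : (RingHom.ker ι.toRingHom).IsPrime := RingHom.ker_isPrime _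
  obtain ⟨Q, hQ, hQle⟩ := Ideal.exists_minimalPrimes_le (bot_le : (⊥ : Ideal B) ≤ RingHom.ker ι.toRingHom)
  let A := B ⧸ RingHom.ker ι.toRingHom
  obtain ⟨s, hs, hsdim⟩ := DimTrdeg.exists_trdeg_eq_ringKrullDim k A
  have hsd : s ≤ d := by
    have h2 := ringKrullDim_le_of_surjective (Ideal.Quotient.factor hQle) (Ideal.Quotient.factor_surjective hQle)
    rw [hsdim, BertiniAff.ringKrullDim_quotient_minimalPrime b hb hQ] at h2
    exact_mod_cast h2
  obtain ⟨T₀, hT₀⟩ := exists_isTranscendenceBasis k A
  have hT₀card : Cardinal.mk T₀ = s := by rw [hT₀.cardinalMk_eq_trdeg, hs]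
  haveI : Finite T₀ := Cardinal.lt_aleph0_iff_finite.mp (by rw [hT₀card]; exact Cardinal.natCast_lt_aleph0)
  haveI : Fintype T₀ := Fintype.ofFinite _
  have hT₀card' : Fintype.card T₀ = s := by rw [Cardinal.mk_fintype] at hT₀card; exact_mod_cast hT₀card
  let ιA : A →ₐ[k] L := Ideal.Quotient.liftₐ _ ι fun a ha => ha
  let y : A ⊕ ULift.{u} (Fin m) → L := Sum.elim ιA fun i => x i.down
  let T : Finset (A ⊕ ULift.{u} (Fin m)) := ((Finset.univ : Finset T₀).map ⟨Subtype.val, Subtype.val_injective⟩).disjSum Sᶜ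
  set F := IntermediateField.adjoin k (y '' (T : Set (A ⊕ ULift.{u} (Fin m))))
  let K := algebraicClosure F L
  have hA : ∀ a : A, IsAlgebraic F (ιA a) := by
    intro a
    have ha := hT₀.isAlgebraic.isAlgebraic a
    have hle : ∀ z ∈ Algebra.adjoin k (Set.range ((↑) : T₀ → A)), ιA z ∈ F := by
      intro z hz
      induction hz using Algebra.adjoin_induction with
      | mem z hz =>
        obtain ⟨w, rfl⟩ := hz
        exact IntermediateField.subset_adjoin _ _ ⟨Sum.inl w.1, Finset.mem_coe.mpr
          (Finset.inl_mem_disjSum.mpr (Finset.mem_map.mpr ⟨w, Finset.mem_univ _, rfl⟩)), rfl⟩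
      | algebraMap r => rw [AlgHom.commutes]; exact F.algebraMap_mem r
      | add p q _ _ hp hq => rw [map_add]; exact add_mem hp hq
      | mul p q _ _ hp hq => rw [map_mul]; exact mul_mem hp hq
    let f : Algebra.adjoin k (Set.range ((↑) : T₀ → A)) →+* F :=
      { toFun := fun z => ⟨ιA z.1, hle z.1 z.2⟩
        map_one' := Subtype.ext (map_one ιA)
        map_mul' := fun p q => Subtype.ext (map_mul ιA _ _)
        map_zero' := Subtype.ext (map_zero ιA)
        map_add' := fun p q => Subtype.ext (map_add ιA _ _) }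
    have hιA : Function.Injective ιA := RingHom.kerLift_injective ι.toRingHom
    exact ha.ringHom_of_comp_eq f (ιA : A →+* L) (fun p q h => Subtype.ext (hιA (congrArg Subtype.val h))) rfl
  have hB : ∀ a : B, ι a ∈ K.restrictScalars k := fun a =>
    mem_algebraicClosure_iff.mpr (hA (Ideal.Quotient.mk _ a))
  have hxK : ∀ i, x i ∈ K.restrictScalars k := fun i => hS (K.restrictScalars k) (fun i o => hB _) (fun o => hB _)
    (fun j hj => mem_algebraicClosure_iff.mpr (isAlgebraic_algebraMap (⟨_, IntermediateField.subset_adjoin _ _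
      ⟨Sum.inr j, Finset.mem_coe.mpr (Finset.inr_mem_disjSum.mpr (Finset.mem_compl.mpr hj)), rfl⟩⟩ : F))) ⟨i⟩
  have hle := ForSys.trdeg_adjoin_le (k := k) y (T : Set (A ⊕ ULift.{u} (Fin m))) T.finite_toSet (by
    rintro (a | i)
    · exact hA a
    · exact mem_algebraicClosure_iff.mp (hxK i.down))
  let xg : ULift.{u} (Fin m) → Algebra.adjoin k (Set.range y) := fun i =>
    ⟨x i.down, Algebra.subset_adjoin ⟨Sum.inr i, rfl⟩⟩
  have hxg : AlgebraicIndependent k xg :=
    AlgebraicIndependent.of_comp (Algebra.adjoin k (Set.range y)).val (hx.comp _ ULift.down_injective)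
  have h2 := hxg.cardinalMk_le_trdeg.trans hle
  rw [Cardinal.mk_fintype, Fintype.card_ulift, Fintype.card_fin, Set.ncard_coe_finset, Finset.card_disjSum,
    Finset.card_map, Finset.card_univ, hT₀card', Finset.card_compl, Fintype.card_ulift, Fintype.card_fin, hScard,
    Fintype.card_ulift, Fintype.card_option, Fintype.card_fin] at h2
  have h3 : m ≤ s + (m - (d + 1)) := by exact_mod_cast h2
  have h4 := S.card_le_univ
  rw [hScard] at h4
  simp only [Fintype.card_ulift, Fintype.card_option, Fintype.card_fin] at h4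
  omega

theorem not_algebraicIndependent_generated [CharZero k] {B : Type u} [CommRing B] [Algebra k B]
    [Algebra.FiniteType k B] {m d : ℕ} {z : Fin d → B} (b : Module.Basis (Fin d) B Ω[B⁄k])
    (g₀ : B) (g : Fin m → B) (hg₀ : g₀ = 0) (hgen : Ideal.span (Set.range g) = ⊤)
    {L : Type u} [Field L] [Algebra k L] [Algebra.EssFiniteType k L] (ι : B →ₐ[k] L) (x : Fin m → L)
    (h0 : ι g₀ + ∑ i, x i * ι (g i) = 0)
    (h1 : ∀ t, ι (b.repr (D k B g₀) t) + ∑ i, x i * ι (b.repr (D k B (g i)) t) = 0) :
    ¬ AlgebraicIndependent k x := by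
  classical
  subst hg₀
  simp only [map_zero, zero_add, Finsupp.coe_zero, Pi.zero_apply] at h0 h1
  intro hx
  obtain ⟨j, hj⟩ : ∃ j, ι (g j) ≠ 0 := by
    by_contra hcon
    push Not at hcon
    have : Ideal.span (Set.range g) ≤ RingHom.ker ι.toRingHom := Ideal.span_le.mpr (by rintro _ ⟨i, rfl⟩; exact hcon i)
    rw [hgen, top_le_iff] at this
    exact RingHom.ker_ne_top _ this
  let R := MvPolynomial (Fin m) k
  let K := FractionRing R
  let ev : R →ₐ[k] L := MvPolynomial.aeval x
  let evK : K →ₐ[k] L := IsFractionRing.liftAlgHom (g := ev) hx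
  algebraize [evK.toRingHom]
  haveI : IsScalarTower k K L := IsScalarTower.of_algebraMap_eq fun c => (evK.commutes c).symm
  haveI : Algebra.EssFiniteType K L := Algebra.EssFiniteType.of_comp k K L
  haveI : CharZero K := charZero_of_injective_algebraMap (RingHom.injective (algebraMap k K))
  haveI : Algebra.FormallySmooth K L := inferInstance
  haveI : Subsingleton (Algebra.H1Cotangent K L) := Algebra.FormallySmooth.subsingleton_h1Cotangent
  have hinj : Function.Injective (KaehlerDifferential.mapBaseChange k K L) := by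
    rw [← LinearMap.ker_eq_bot, (Algebra.H1Cotangent.exact_δ_mapBaseChange k K L).linearMap_ker_eq]
    rw [LinearMap.range_eq_bot]
    exact Subsingleton.elim _ _
  -- the derivation `∂/∂x_j`
  letI : Algebra R L := ev.toRingHom.toAlgebra
  haveI : IsScalarTower R K L := IsScalarTower.of_algebraMap_eq fun r =>
    (IsFractionRing.lift_algebraMap (A := R) (K := K) (g := ev.toRingHom) hx r).symm
  let dR : Ω[R⁄k] →ₗ[R] L := (KaehlerDifferential.mvPolynomialBasis k (Fin m)).constr R fun i => if i = j then 1 else 0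
  have hbc := KaehlerDifferential.isBaseChange_of_formallyEtale k R K
  let dK : Ω[K⁄k] →ₗ[K] L := hbc.lift dR
  let dT : L ⊗[K] Ω[K⁄k] →ₗ[L] L := dK.liftBaseChange L
  obtain ⟨Δ, hΔ⟩ := LinearMap.exists_leftInverse_of_injective (KaehlerDifferential.mapBaseChange k K L)
    (LinearMap.ker_eq_bot.mpr hinj)
  let δ : Derivation k L L := (dT.comp Δ).compDer (D k L)
  have hδx : ∀ i, δ (x i) = if i = j then 1 else 0 := fun i => by
    show dT (Δ (D k L (x i))) = _
    have h2 : D k L (x i) = KaehlerDifferential.mapBaseChange k K L (1 ⊗ₜ D k K (algebraMap R K (MvPolynomial.X i))) := by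
      rw [KaehlerDifferential.mapBaseChange_tmul, one_smul, KaehlerDifferential.map_D, ← IsScalarTower.algebraMap_apply]
      exact congrArg _ (MvPolynomial.aeval_X x i).symm
    rw [h2, show ∀ w, Δ (KaehlerDifferential.mapBaseChange k K L w) = w from fun w => LinearMap.congr_fun hΔ w]
    simp only [dT, LinearMap.liftBaseChange_tmul, one_smul]
    rw [show D k K (algebraMap R K (MvPolynomial.X i)) = KaehlerDifferential.map k k R K (D k R (MvPolynomial.X i)) from
      (KaehlerDifferential.map_D k k R K _).symm]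
    refine (hbc.lift_eq dR _).trans ?_
    rw [← KaehlerDifferential.mvPolynomialBasis_apply]
    exact Module.Basis.constr_basis _ _ _ _
  -- differentiate the equation
  letI : Algebra B L := ι.toRingHom.toAlgebra
  haveI : IsScalarTower k B L := IsScalarTower.of_algebraMap_eq fun c => (ι.commutes c).symm
  let δB : Ω[B⁄k] →ₗ[B] L := ((δ.compAlgebraMap B)).liftKaehlerDifferential
  have hδB : ∀ a : B, δ (ι a) = ∑ t, ι (b.repr (D k B a) t) * δB (b t) := fun a => by
    rw [show δ (ι a) = δB (D k B a) from (Derivation.liftKaehlerDifferential_comp_D (δ.compAlgebraMap B) a).symm]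
    conv_lhs => rw [← b.sum_repr (D k B a)]
    rw [map_sum]
    exact Finset.sum_congr rfl fun t _ => by rw [map_smul, Algebra.smul_def]; rfl
  have h2 := congrArg δ h0
  rw [map_zero, map_sum] at h2
  simp only [Derivation.leibniz, smul_eq_mul, hδB, hδx, mul_ite, mul_one, mul_zero, Finset.sum_add_distrib,
    Finset.sum_ite_eq', Finset.mem_univ, if_true, Finset.mul_sum] at h2
  rw [Finset.sum_comm] at h2
  simp only [← mul_assoc, ← Finset.sum_mul, h1, zero_mul, Finset.sum_const_zero, zero_add] at h2
  exact hj h2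

end Groth.Agent.BertiniZero
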