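import Groth.Prelude.Def_PicF2
import Groth.Prelude.Def_FlatMod2
import Groth.Prelude.Def_Formal
import Groth.Agent.InvBasic.Basic
import Groth.Agent.InvBasic.QCoh
import Groth.Agent.QCohLib.Sections

/-!
# Local equations of zero schemes of sections of invertible modules
-/

set_option autoImplicit false

universe u

open CategoryTheory CategoryTheory.Limits AlgebraicGeometry TopologicalSpace Opposite

namespace Groth.Agent.BertiniZero

variable {X : Scheme.{u}}

theorem isInvertible_of_rankOne {L : X.Modules} (hL : FlatMod.IsFinLocFreeOfRank 1 L) : PicF.IsInvertible L := fun x => by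
  obtain ⟨U, hx, ⟨e⟩⟩ := hL x
  exact ⟨U, hx, ⟨e ≪≫ coproductUniqueIso _⟩⟩

/-- The value of a section on an open, as a section of the module. -/
noncomputable abbrev secv (L : X.Modules) (s : Coh.structureModule X ⟶ L) (U : X.Opens) : Γ(L, U) := PicF2.secVal L s U

theorem secv_res (L : X.Modules) (s : Coh.structureModule X ⟶ L) {U V : X.Opens} (h : V ≤ U) :
    secv L s V = L.presheaf.map (homOfLE h).op (secv L s U) := by
  refine Eq.trans ?_ (QCohLib.app_map s h (1 : Γ(X, U)))
  exact congrArg (s.app V) (map_one (X.presheaf.map (homOfLE h).op).hom).symm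

theorem mem_zeroIdealOn {L : X.Modules} {s : Coh.structureModule X ⟶ L} {U : X.Opens} (a : Γ(X, U)) :
    a ∈ (show Ideal Γ(X, U) from PicF2.zeroIdealOn L s U) ↔ ∀ m : Γ(L, U), ∃ b : Γ(X, U), a • m = b • secv L s U :=
  Iff.rfl

theorem mem_zeroIdealOn_of_basis {L : X.Modules} {s : Coh.structureModule X ⟶ L} {U : X.Opens} {ℓ : Γ(L, U)}
    (hℓ : InvBasic.IsBasis L ℓ) {h : Γ(X, U)} (hh : secv L s U = h • ℓ) (a : Γ(X, U)) :
    a ∈ (show Ideal Γ(X, U) from PicF2.zeroIdealOn L s U) ↔ a ∈ Ideal.span {h} := by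
  have hb : Function.Bijective fun r : Γ(X, U) => r • ℓ := by
    have h1 := hℓ U le_rfl
    simpa only [QCohLib.map_self] using h1
  rw [mem_zeroIdealOn, Ideal.mem_span_singleton']
  constructor
  · intro ha
    obtain ⟨b, hb'⟩ := ha ℓ
    rw [hh, smul_smul] at hb'
    exact ⟨b, (hb.1 hb').symm⟩
  · rintro ⟨b, rfl⟩ m
    obtain ⟨r, rfl⟩ := hb.2 m
    exact ⟨b * r, by simp only [hh, smul_smul]; ring_nf⟩

variable (L : X.Modules) (s : Coh.structureModule X ⟶ L)

theorem map_zeroIdealOn_le {U : X.Opens} (hU : IsAffineOpen U) [L.IsQuasicoherent] (f : Γ(X, U)) :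
    (show Ideal Γ(X, U) from PicF2.zeroIdealOn L s U).map (X.presheaf.map (homOfLE (X.basicOpen_le f)).op).hom ≤
      (show Ideal Γ(X, X.basicOpen f) from PicF2.zeroIdealOn L s (X.basicOpen f)) := by
  rw [Ideal.map_le_iff_le_comap]
  intro a ha
  rw [Ideal.mem_comap, mem_zeroIdealOn]
  intro m
  obtain ⟨n, m', hm'⟩ := QCohLib.exists_res_eq_pow_smul (M := L) hU f _ (X.basicOpen_le f) rfl m
  obtain ⟨b, hb⟩ := (mem_zeroIdealOn a).1 ha m'
  have hu : IsUnit ((X.presheaf.map (homOfLE (X.basicOpen_le f)).op).hom f ^ n) :=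
    (X.toRingedSpace.isUnit_res_basicOpen f).pow n
  refine ⟨↑hu.unit⁻¹ * X.presheaf.map (homOfLE (X.basicOpen_le f)).op b, ?_⟩
  have h1 := congrArg (L.presheaf.map (homOfLE (X.basicOpen_le f)).op) hb
  rw [Scheme.Modules.map_smul, Scheme.Modules.map_smul, hm', ← secv_res] at h1
  rw [mul_smul, ← h1, smul_smul, smul_smul, mul_right_comm, IsUnit.val_inv_mul, one_mul]

theorem exists_zeroIdealSheaf (hL : PicF.IsInvertible L) :
    ∃ J : X.IdealSheafData, ∀ U : X.affineOpens, J.ideal U = (show Ideal Γ(X, U.1) from PicF2.zeroIdealOn L s U.1) := by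
  haveI := InvBasic.isQuasicoherent_of_isInvertible hL
  refine ⟨⟨fun U => (show Ideal Γ(X, U.1) from PicF2.zeroIdealOn L s U.1), fun U f => ?_, _, rfl⟩, fun U => rfl⟩
  refine le_antisymm (map_zeroIdealOn_le L s U.2 f) fun a' ha' => ?_
  letI := (X.presheaf.map (homOfLE (X.basicOpen_le f)).op).hom.toAlgebra
  haveI : IsLocalization.Away f Γ(X, X.basicOpen f) := U.2.isLocalization_basicOpen f
  obtain ⟨n, a, ha⟩ := IsLocalization.Away.surj f a'
  have hu : IsUnit ((X.presheaf.map (homOfLE (X.basicOpen_le f)).op).hom f) := X.toRingedSpace.isUnit_res_basicOpen f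
  -- locally a power of `f` multiplies `a` into the ideal
  have hloc : ∀ x : U.1, ∃ (g : Γ(X, U.1)) (ℓ : Γ(L, X.basicOpen g)) (h : Γ(X, X.basicOpen g)) (N : ℕ),
      x.1 ∈ X.basicOpen g ∧ InvBasic.IsBasis L ℓ ∧ secv L s (X.basicOpen g) = h • ℓ ∧
      X.presheaf.map (homOfLE (X.basicOpen_le g)).op (f ^ N * a) ∈ Ideal.span {h} := by
    intro x
    obtain ⟨W, hxW, ℓW, hℓW⟩ := InvBasic.exists_isBasis hL x.1
    obtain ⟨g, hgW, hxg⟩ := U.2.exists_basicOpen_le ⟨x.1, hxW⟩ x.2
    let ℓ : Γ(L, X.basicOpen g) := L.presheaf.map (homOfLE hgW).op ℓW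
    have hℓ : InvBasic.IsBasis L ℓ := hℓW.restrict hgW
    obtain ⟨h, hh⟩ := (hℓ _ le_rfl).2 (secv L s (X.basicOpen g))
    simp only [QCohLib.map_self] at hh
    -- on the overlap
    let fg : Γ(X, X.basicOpen g) := X.presheaf.map (homOfLE (X.basicOpen_le g)).op f
    have hle1 : X.basicOpen fg ≤ X.basicOpen f := by
      rw [X.basicOpen_res]; exact inf_le_right
    have hle2 : X.basicOpen fg ≤ X.basicOpen g := X.basicOpen_le _
    letI := (X.presheaf.map (homOfLE hle2).op).hom.toAlgebra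
    haveI : IsLocalization.Away fg Γ(X, X.basicOpen fg) := (U.2.basicOpen g).isLocalization_basicOpen fg
    -- `a'` lies in the ideal there
    have hres : X.presheaf.map (homOfLE hle1).op a' ∈ (show Ideal Γ(X, X.basicOpen fg) from
        PicF2.zeroIdealOn L s (X.basicOpen fg)) := by
      have hb : Function.Bijective fun r : Γ(X, X.basicOpen fg) =>
          r • L.presheaf.map (homOfLE hle2).op ℓ := hℓ _ hle2
      have hh2 : secv L s (X.basicOpen fg) =
          X.presheaf.map (homOfLE hle2).op h • L.presheaf.map (homOfLE hle2).op ℓ := by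
        rw [secv_res L s hle2, ← hh, Scheme.Modules.map_smul]
      obtain ⟨k, m', hm'⟩ := QCohLib.exists_res_eq_pow_smul (M := L) (U.2.basicOpen f) (X.presheaf.map (homOfLE (X.basicOpen_le f)).op g) (X.basicOpen fg) hle1 (by
          rw [X.basicOpen_res, X.basicOpen_res, inf_comm])
        (L.presheaf.map (homOfLE hle2).op ℓ)
      obtain ⟨b, hb'⟩ := (mem_zeroIdealOn a').1 ha' m'
      have h1 := congrArg (L.presheaf.map (homOfLE hle1).op) hb'
      rw [Scheme.Modules.map_smul, Scheme.Modules.map_smul, hm', ← secv_res, hh2, smul_smul, smul_smul] at h1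
      have h2 := hb.1 h1
      rw [mem_zeroIdealOn_of_basis (hℓ.restrict hle2) hh2, Ideal.mem_span_singleton']
      have hgu : IsUnit ((X.presheaf.map (homOfLE hle1).op).hom ((X.presheaf.map (homOfLE (X.basicOpen_le f)).op).hom g)) := by
        have e : (X.presheaf.map (homOfLE hle1).op).hom ((X.presheaf.map (homOfLE (X.basicOpen_le f)).op).hom g) =
            X.presheaf.map (homOfLE hle2).op (X.presheaf.map (homOfLE (X.basicOpen_le g)).op g) := by
          exact (QCohLib.ring_map_map hle1 _ g).trans (QCohLib.ring_map_map hle2 _ g).symm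
        rw [e]
        exact (X.toRingedSpace.isUnit_res_basicOpen g).map _
      refine ⟨↑(hgu.pow k).unit⁻¹ * X.presheaf.map (homOfLE hle1).op b, ?_⟩
      rw [mul_assoc, ← h2, ← mul_assoc, mul_right_comm, IsUnit.val_inv_mul, one_mul]
    have hspan : Ideal.span {X.presheaf.map (homOfLE hle2).op h} =
        (Ideal.span {h}).map (algebraMap Γ(X, X.basicOpen g) Γ(X, X.basicOpen fg)) := by
      rw [Ideal.map_span, Set.image_singleton]; rfl
    have hmem : algebraMap Γ(X, X.basicOpen g) Γ(X, X.basicOpen fg)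
        (X.presheaf.map (homOfLE (X.basicOpen_le g)).op a) ∈ (Ideal.span {h}).map (algebraMap _ Γ(X, X.basicOpen fg)) := by
      rw [← hspan, ← mem_zeroIdealOn_of_basis (hℓ.restrict hle2) (by rw [secv_res L s hle2, ← hh, Scheme.Modules.map_smul])]
      have e : algebraMap Γ(X, X.basicOpen g) Γ(X, X.basicOpen fg) (X.presheaf.map (homOfLE (X.basicOpen_le g)).op a) =
          X.presheaf.map (homOfLE hle1).op (X.presheaf.map (homOfLE (X.basicOpen_le f)).op a) :=
        (QCohLib.ring_map_map hle2 _ a).trans (QCohLib.ring_map_map hle1 _ a).symm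
      rw [e, show X.presheaf.map (homOfLE (X.basicOpen_le f)).op a = a' * (X.presheaf.map (homOfLE (X.basicOpen_le f)).op f) ^ n
        from ha.symm, map_mul]
      exact Ideal.mul_mem_right _ _ hres
    obtain ⟨_, ⟨N, rfl⟩, hN⟩ := (IsLocalization.algebraMap_mem_map_algebraMap_iff (Submonoid.powers fg) Γ(X, X.basicOpen fg) _ _).1 hmem
    exact ⟨g, ℓ, h, N, hxg, hℓ, hh.symm, by rw [map_mul, map_pow]; exact hN⟩
  choose g ℓ h N hxg hℓ hh hN using hloc
  obtain ⟨t, ht⟩ := U.2.isCompact.elim_finite_subcover (fun x : U.1 => (X.basicOpen (g x) : Set X))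
    (fun x => (X.basicOpen (g x)).isOpen) (fun y hy => Set.mem_iUnion.mpr ⟨⟨y, hy⟩, hxg ⟨y, hy⟩⟩)
  have hmem : f ^ t.sup N * a ∈ (show Ideal Γ(X, U.1) from PicF2.zeroIdealOn L s U.1) := by
    rw [mem_zeroIdealOn]
    intro m
    let K : Ideal Γ(X, U.1) :=
      (Submodule.span Γ(X, U.1) {secv L s U.1}).colon {(f ^ t.sup N * a) • m}
    suffices hK : K = ⊤ by
      have h1 := Submodule.mem_colon.1 (hK.symm ▸ Submodule.mem_top : (1 : Γ(X, U.1)) ∈ K) _ (Set.mem_singleton _)
      rw [one_smul, Submodule.mem_span_singleton] at h1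
      obtain ⟨b, hb⟩ := h1
      exact ⟨b, hb.symm⟩
    by_contra hK
    obtain ⟨P, hP, hKP⟩ := Ideal.exists_le_maximal K hK
    let y : PrimeSpectrum Γ(X, U.1) := ⟨P, hP.isPrime⟩
    obtain ⟨x, hx, hyx⟩ := Set.mem_iUnion₂.mp (ht (show (U.2.fromSpec.base y : X) ∈ (U.1 : Set X) from
      U.2.range_fromSpec.le ⟨y, rfl⟩))
    have hgP : g x ∉ P := by
      have h1 : y ∈ U.2.fromSpec ⁻¹ᵁ X.basicOpen (g x) := hyx
      rw [U.2.fromSpec_preimage_basicOpen] at h1
      exact h1
    obtain ⟨b₁, hb₁⟩ := Ideal.mem_span_singleton'.1 (hN x)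
    -- on the small open
    obtain ⟨r, hr⟩ := (hℓ x _ le_rfl).2 (L.presheaf.map (homOfLE (X.basicOpen_le (g x))).op m)
    simp only [QCohLib.map_self] at hr
    obtain ⟨c, hc⟩ := Nat.exists_eq_add_of_le (Finset.le_sup (f := N) hx)
    letI := (X.presheaf.map (homOfLE (X.basicOpen_le (g x))).op).hom.toAlgebra
    haveI : IsLocalization.Away (g x) Γ(X, X.basicOpen (g x)) := U.2.isLocalization_basicOpen (g x)
    let ρ := (X.presheaf.map (homOfLE (X.basicOpen_le (g x))).op).hom
    obtain ⟨e, β, hβ⟩ := IsLocalization.Away.surj (g x) (ρ f ^ c * b₁ * r)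
    have hz : L.presheaf.map (homOfLE (X.basicOpen_le (g x))).op
        (g x ^ e • ((f ^ t.sup N * a) • m) - β • secv L s U.1) = 0 := by
      rw [map_sub, Scheme.Modules.map_smul, Scheme.Modules.map_smul, Scheme.Modules.map_smul, ← secv_res, sub_eq_zero,
        map_pow, map_mul, map_pow, ← hr, hh x, smul_smul, smul_smul, smul_smul]
      congr 1
      rw [show X.presheaf.map (homOfLE (X.basicOpen_le (g x))).op β = ρ f ^ c * b₁ * r * ρ (g x) ^ e from hβ.symm]
      rw [map_mul, map_pow] at hb₁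
      show ρ (g x) ^ e * (ρ f ^ t.sup N * ρ a) * r = _
      rw [hc, pow_add]
      have hb₂ : b₁ * h x = ρ f ^ N x * ρ a := hb₁
      linear_combination (-(ρ (g x) ^ e * ρ f ^ c * r)) * hb₂
    obtain ⟨l, hl⟩ := QCohLib.exists_pow_smul_eq_zero (M := L) U.2 (g x) _ (X.basicOpen_le (g x)) rfl _ hz
    refine hgP (hP.isPrime.mem_of_pow_mem (l + e) (hKP (Submodule.mem_colon.2 fun z hz' => ?_)))
    rw [Set.mem_singleton_iff.1 hz', Submodule.mem_span_singleton]
    refine ⟨g x ^ l * β, ?_⟩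
    rw [smul_sub, smul_smul, smul_smul, sub_eq_zero, ← pow_add] at hl
    rw [mul_smul, ← hl, mul_smul]
  have h1 := Ideal.mem_map_of_mem (X.presheaf.map (homOfLE (X.basicOpen_le f)).op).hom hmem
  rw [map_mul, map_pow, show (X.presheaf.map (homOfLE (X.basicOpen_le f)).op).hom a =
    a' * (X.presheaf.map (homOfLE (X.basicOpen_le f)).op).hom f ^ n from ha.symm, ← mul_assoc, mul_comm _ a', mul_assoc,
    ← pow_add] at h1
  exact (Ideal.mul_unit_mem_iff_mem _ (hu.pow _)).1 h1

/-- On an affine open with a basis the zero scheme is cut out by the coordinate of the section. -/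
theorem zeroScheme_ideal_eq_span (hL : PicF.IsInvertible L) (U : X.affineOpens) {ℓ : Γ(L, U.1)}
    (hℓ : InvBasic.IsBasis L ℓ) {h : Γ(X, U.1)} (hh : secv L s U.1 = h • ℓ) :
    (PicF2.zeroScheme L s).ideal U = Ideal.span {h} := by
  obtain ⟨J, hJ⟩ := exists_zeroIdealSheaf L s hL
  refine le_antisymm (fun a ha => (mem_zeroIdealOn_of_basis hℓ hh a).1 (Scheme.IdealSheafData.ideal_ofIdeals_le _ U ha)) ?_
  intro a ha
  have h1 : J ≤ PicF2.zeroScheme L s := Scheme.IdealSheafData.le_ofIdeals_iff.2 fun V => (hJ V).le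
  refine h1 U ?_
  rw [hJ]
  exact (mem_zeroIdealOn_of_basis hℓ hh a).2 ha

end Groth.Agent.BertiniZero
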