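import Groth.Agent.BertiniZero.Smooth
import Groth.Agent.BertiniZero.ZeroScheme
import Mathlib.AlgebraicGeometry.Morphisms.Smooth
import Mathlib.AlgebraicGeometry.Morphisms.FiniteType

/-!
# Bertini theorems for zero schemes of sections of invertible modules
-/

set_option autoImplicit false

universe u

open CategoryTheory CategoryTheory.Limits AlgebraicGeometry TopologicalSpace Opposite

namespace Groth.Agent.BertiniZero

variable (k : Type u) [Field k] {Y : Scheme.{u}} [Y.Over (Spec (CommRingCat.of k))]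

/-- The sections over an open as an algebra over the base field. -/
@[reducible] noncomputable def algOver (U : Y.Opens) : Algebra k Γ(Y, U) :=
  ((Y.presheaf.map (homOfLE (le_top : U ≤ ⊤)).op).hom.comp (Coh.toGlobal (Y ↘ Spec (CommRingCat.of k)))).toAlgebra

theorem fromSpec_comp_over {U : Y.Opens} (hU : IsAffineOpen U) :
    hU.fromSpec ≫ (Y ↘ Spec (CommRingCat.of k)) =
      Spec.map (CommRingCat.ofHom (letI := algOver k U; algebraMap k Γ(Y, U))) := by
  rw [← IsAffineOpen.SpecMap_appLE_fromSpec (Y ↘ Spec (CommRingCat.of k)) (isAffineOpen_top _) hU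
    (U := ⊤) (by exact le_top), IsAffineOpen.fromSpec_top, Scheme.isoSpec_Spec_inv, ← Spec.map_comp]
  rfl

theorem smooth_algOver [Smooth (Y ↘ Spec (CommRingCat.of k))] {U : Y.Opens} (hU : IsAffineOpen U) :
    letI := algOver k U; Algebra.Smooth k Γ(Y, U) := by
  letI := algOver k U
  haveI : IsOpenImmersion hU.fromSpec := inferInstance
  have h : Smooth (hU.fromSpec ≫ (Y ↘ Spec (CommRingCat.of k))) := inferInstance
  rw [fromSpec_comp_over k hU, HasRingHomProperty.Spec_iff (P := @Smooth)] at h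
  exact RingHom.smooth_algebraMap.1 h

/-- `secv` as an additive map. -/
theorem secv_add (L : Y.Modules) (s t : Coh.structureModule Y ⟶ L) (U : Y.Opens) :
    secv L (s + t) U = secv L s U + secv L t U := rfl

theorem secv_sum (L : Y.Modules) {ι : Type*} (F : Finset ι) (s : ι → (Coh.structureModule Y ⟶ L)) (U : Y.Opens) :
    secv L (∑ i ∈ F, s i) U = ∑ i ∈ F, secv L (s i) U :=
  map_sum (AddMonoidHom.mk' (fun t => secv L t U) fun a b => secv_add L a b U) s F

theorem secv_smulMod (L : Y.Modules) (c : k) (s : Coh.structureModule Y ⟶ L) (U : Y.Opens) :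
    letI := algOver k U
    secv L (Formal.smulMod k (Coh.structureModule Y) c ≫ s) U = algebraMap k Γ(Y, U) c • secv L s U :=
  (s.val.app (op U)).hom.map_smul _ _

theorem secv_comb (L : Y.Modules) {m : ℕ} (s : Fin m → (Coh.structureModule Y ⟶ L)) (c : Fin m → k) {U : Y.Opens}
    {ℓ : Γ(L, U)} (g : Fin m → Γ(Y, U)) (hg : ∀ i, secv L (s i) U = g i • ℓ) :
    letI := algOver k U
    secv L (∑ i, Formal.smulMod k (Coh.structureModule Y) (c i) ≫ s i) U =
      (∑ i, algebraMap k Γ(Y, U) (c i) * g i) • ℓ := by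
  rw [secv_sum, Finset.sum_smul]
  exact Finset.sum_congr rfl fun i _ => by rw [secv_smulMod, hg, smul_smul]

/-- A closed subscheme is smooth if it is smooth on the members of an affine cover. -/
theorem smooth_subscheme_of_cover (I : Y.IdealSheafData) {ι : Type*} (U : ι → Y.affineOpens)
    (hU : ⨆ j, (U j).1 = ⊤)
    (h : ∀ j, letI := algOver k (U j).1; Algebra.Smooth k (Γ(Y, (U j).1) ⧸ I.ideal (U j))) :
    Smooth (I.subschemeι ≫ (Y ↘ Spec (CommRingCat.of k))) := by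
  refine IsZariskiLocalAtSource.of_iSup_eq_top (fun j => (I.subschemeCover.f (U j)).opensRange) ?_ fun j => ?_
  · simp only [Scheme.IdealSheafData.opensRange_subschemeCover_map, ← Scheme.Hom.preimage_iSup, hU, Scheme.Hom.preimage_top]
  · letI := algOver k (U j).1
    rw [← MorphismProperty.cancel_left_of_respectsIso @Smooth (I.subschemeCover.f (U j)).isoOpensRange.hom,
      Scheme.Hom.isoOpensRange_hom_ι_assoc, ← Category.assoc, Scheme.IdealSheafData.subschemeCover_map_subschemeι,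
      Scheme.IdealSheafData.glueDataObjι_ι]
    have e : (Spec.map (CommRingCat.ofHom (Ideal.Quotient.mk (I.ideal (U j)))) ≫ (U j).2.fromSpec) ≫
        (Y ↘ Spec (CommRingCat.of k)) =
        Spec.map (CommRingCat.ofHom (algebraMap k (Γ(Y, (U j).1) ⧸ I.ideal (U j)))) :=
      (Category.assoc _ _ _).trans ((congrArg _ (fromSpec_comp_over k (U j).2)).trans (Spec.map_comp _ _).symm)
    refine (congrArg (fun φ => Smooth φ) e).mpr ?_
    exact (HasRingHomProperty.Spec_iff (P := @Smooth)).2 (RingHom.smooth_algebraMap.2 (h j))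

/-- Assemble a generic smoothness statement from affine pieces. -/
theorem exists_generic_smooth [QuasiCompact (Y ↘ Spec (CommRingCat.of k))]
    (L : Y.Modules) (hL : PicF.IsInvertible L) {m : ℕ} (s : Fin m → (Coh.structureModule Y ⟶ L))
    (f : Coh.structureModule Y ⟶ L)
    (h : ∀ (U : Y.affineOpens) (ℓ : Γ(L, U.1)) (g₀ : Γ(Y, U.1)) (g : Fin m → Γ(Y, U.1)), InvBasic.IsBasis L ℓ →
      secv L f U.1 = g₀ • ℓ → (∀ i, secv L (s i) U.1 = g i • ℓ) →
      letI := algOver k U.1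
      ∃ p : MvPolynomial (Fin m) k, p ≠ 0 ∧ ∀ a : Fin m → k, MvPolynomial.eval a p ≠ 0 →
        Algebra.Smooth k (Γ(Y, U.1) ⧸ Ideal.span {g₀ + ∑ i, algebraMap k Γ(Y, U.1) (a i) * g i})) :
    ∃ q : MvPolynomial (Fin m) k, q ≠ 0 ∧ ∀ c : Fin m → k, MvPolynomial.eval c q ≠ 0 →
      Smooth ((PicF2.zeroScheme L (f + ∑ i : Fin m, Formal.smulMod k (Coh.structureModule Y) (c i) ≫ s i)).subschemeι ≫
        (Y ↘ Spec (CommRingCat.of k))) := by
  classical
  haveI : CompactSpace Y := QuasiCompact.compactSpace_of_compactSpace (Y ↘ Spec (CommRingCat.of k))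
  have hloc : ∀ x : Y, ∃ (U : Y.affineOpens) (ℓ : Γ(L, U.1)), x ∈ U.1 ∧ InvBasic.IsBasis L ℓ := fun x => by
    obtain ⟨W, hx, ℓ, hℓ⟩ := InvBasic.exists_isBasis hL x
    obtain ⟨V, hV, hxV, hVW⟩ := exists_isAffineOpen_mem_and_subset hx
    exact ⟨⟨V, hV⟩, _, hxV, hℓ.restrict hVW⟩
  choose U ℓ hxU hℓ using hloc
  obtain ⟨t, ht⟩ := isCompact_univ.elim_finite_subcover (fun x : Y => ((U x).1 : Set Y))
    (fun x => (U x).1.isOpen) (fun y _ => Set.mem_iUnion.mpr ⟨y, hxU y⟩)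
  have hcoord : ∀ x : Y, ∃ (g₀ : Γ(Y, (U x).1)) (g : Fin m → Γ(Y, (U x).1)),
      secv L f (U x).1 = g₀ • ℓ x ∧ ∀ i, secv L (s i) (U x).1 = g i • ℓ x := fun x => by
    have hb : Function.Surjective fun r : Γ(Y, (U x).1) => r • ℓ x := by
      have h1 := (hℓ x _ le_rfl).2
      simpa only [QCohLib.map_self] using h1
    obtain ⟨g₀, hg₀⟩ := hb (secv L f (U x).1)
    choose g hg using fun i => hb (secv L (s i) (U x).1)
    exact ⟨g₀, g, hg₀.symm, fun i => (hg i).symm⟩
  choose g₀ g hg₀ hg using hcoord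
  choose p hp hps using fun x : Y => h (U x) (ℓ x) (g₀ x) (g x) (hℓ x) (hg₀ x) (hg x)
  refine ⟨∏ x ∈ t, p x, Finset.prod_ne_zero_iff.2 fun x _ => hp x, fun c hc => ?_⟩
  rw [map_prod, Finset.prod_ne_zero_iff] at hc
  refine smooth_subscheme_of_cover k _ (fun x : t => U x.1) ?_ fun x => ?_
  · refine eq_top_iff.2 fun y _ => ?_
    obtain ⟨x, hx, hy⟩ := Set.mem_iUnion₂.mp (ht (Set.mem_univ y))
    exact Opens.mem_iSup.2 ⟨⟨x, hx⟩, hy⟩
  · letI := algOver k (U x.1).1
    have hh : secv L (f + ∑ i, Formal.smulMod k (Coh.structureModule Y) (c i) ≫ s i) (U x.1).1 =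
        (g₀ x.1 + ∑ i, algebraMap k Γ(Y, (U x.1).1) (c i) * g x.1 i) • ℓ x.1 := by
      rw [secv_add, secv_comb k L s c (g x.1) (hg x.1), hg₀, add_smul]
    rw [zeroScheme_ideal_eq_span L _ hL (U x.1) (hℓ x.1) hh]
    exact hps x.1 c (hc x.1 x.2)

/-- The hypothesis on jets at closed points, read off in coordinates. -/
theorem jets_coord [IsAlgClosed k] [LocallyOfFiniteType (Y ↘ Spec (CommRingCat.of k))] (L : Y.Modules) {m : ℕ}
    (s : Fin m → (Coh.structureModule Y ⟶ L))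
    (hjet : ∀ p : Y, IsClosed ({p} : Set Y) → ∀ l : ↥(L.presheaf.stalk p), ∃ c : Fin m → k,
      (L.presheaf.germ ⊤ p trivial)
          (PicF2.secVal L (∑ i : Fin m, Formal.smulMod k (Coh.structureModule Y) (c i) ≫ s i) ⊤) - l ∈
        (IsLocalRing.maximalIdeal ↥(Y.presheaf.stalk p)) ^ 2 •
          (⊤ : Submodule ↥(Y.presheaf.stalk p) ↥(L.presheaf.stalk p)))
    (U : Y.affineOpens) {ℓ : Γ(L, U.1)} (hℓ : InvBasic.IsBasis L ℓ) (g : Fin m → Γ(Y, U.1))
    (hg : ∀ i, secv L (s i) U.1 = g i • ℓ) (P : Ideal Γ(Y, U.1)) (hP : P.IsMaximal) (a : Γ(Y, U.1)) :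
    letI := algOver k U.1
    ∃ c : Fin m → k, a - ∑ i, algebraMap k Γ(Y, U.1) (c i) * g i ∈ P ^ 2 := by
  letI := algOver k U.1
  haveI : JacobsonSpace Y := LocallyOfFiniteType.jacobsonSpace (Y ↘ Spec (CommRingCat.of k))
  let y : PrimeSpectrum Γ(Y, U.1) := ⟨P, hP.isPrime⟩
  let p : Y := U.2.fromSpec y
  have hp : p ∈ U.1 := U.2.range_fromSpec.le ⟨y, rfl⟩
  have hpc : IsClosed ({p} : Set Y) := by
    have h1 : (U.2.fromSpec : Spec Γ(Y, U.1) → Y) ⁻¹' closedPoints Y = closedPoints (Spec Γ(Y, U.1)) :=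
      (Scheme.Hom.isOpenEmbedding U.2.fromSpec).preimage_closedPoints
    exact h1.symm.le (show y ∈ closedPoints (Spec Γ(Y, U.1)) from
      (PrimeSpectrum.isClosed_singleton_iff_isMaximal y).2 hP)
  obtain ⟨c, hc⟩ := hjet p hpc (L.presheaf.germ U.1 p hp (a • ℓ))
  refine ⟨c, ?_⟩
  let x : Γ(Y, U.1) := (∑ i, algebraMap k Γ(Y, U.1) (c i) * g i) - a
  suffices hx : x ∈ P ^ 2 by simpa [x] using neg_mem hx
  have h0 : L.presheaf.germ U.1 p hp (x • ℓ) ∈ (IsLocalRing.maximalIdeal ↥(Y.presheaf.stalk p)) ^ 2 •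
      (⊤ : Submodule ↥(Y.presheaf.stalk p) ↥(L.presheaf.stalk p)) := by
    rw [show x • ℓ = secv L (∑ i, Formal.smulMod k (Coh.structureModule Y) (c i) ≫ s i) U.1 - a • ℓ by
      rw [secv_comb k L s c g hg, ← sub_smul], map_sub, secv_res L _ (le_top : U.1 ≤ ⊤),
      TopCat.Presheaf.germ_res_apply]
    exact hc
  rw [InvBasic.germ_smul] at h0
  have hb := hℓ.stalk_bijective hp
  have htop : (⊤ : Submodule ↥(Y.presheaf.stalk p) ↥(L.presheaf.stalk p)) =
      Submodule.span ↥(Y.presheaf.stalk p) {L.presheaf.germ U.1 p hp ℓ} :=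
    (eq_top_iff.2 fun z _ => Submodule.mem_span_singleton.2 (hb.2 z)).symm
  rw [htop, Submodule.mem_smul_span_singleton] at h0
  obtain ⟨b, hbm, hbe⟩ := h0
  have hgx : Y.presheaf.germ U.1 p hp x ∈ (IsLocalRing.maximalIdeal ↥(Y.presheaf.stalk p)) ^ 2 := by
    rw [← hb.1 hbe]; exact hbm
  letI := TopCat.Presheaf.algebra_section_stalk Y.presheaf (⟨p, hp⟩ : U.1)
  haveI : IsLocalization.AtPrime (Y.presheaf.stalk p) y.asIdeal := U.2.isLocalization_stalk' y hp
  rw [← IsLocalization.AtPrime.map_eq_maximalIdeal y.asIdeal (Y.presheaf.stalk p), ← Ideal.map_pow] at hgx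
  obtain ⟨r, hr, hrx⟩ :=
    (IsLocalization.algebraMap_mem_map_algebraMap_iff y.asIdeal.primeCompl (Y.presheaf.stalk p) _ _).1 hgx
  have hsup : Ideal.span {r} ⊔ P ^ 2 = ⊤ := by
    have h1 : Ideal.span {r} ⊔ P = ⊤ := hP.out.2 _ (lt_of_le_of_ne le_sup_right fun e =>
      hr (show r ∈ P from e.symm.le (Ideal.mem_sup_left (Ideal.mem_span_singleton_self r))))
    exact Ideal.sup_pow_eq_top h1
  obtain ⟨u, hu, w, hw, huw⟩ := Submodule.mem_sup.1 (hsup.symm ▸ Submodule.mem_top : (1 : Γ(Y, U.1)) ∈ _)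
  obtain ⟨v, rfl⟩ := Ideal.mem_span_singleton'.1 hu
  rw [show x = v * (r * x) + x * w by linear_combination (-x) * huw]
  exact add_mem (Ideal.mul_mem_left _ _ hrx) (Ideal.mul_mem_left _ _ hw)

/-- Generated linear systems give the unit ideal in coordinates. -/
theorem span_coord_eq_top (L : Y.Modules) (hL : PicF.IsInvertible L) {m : ℕ}
    (s : Fin m → (Coh.structureModule Y ⟶ L)) (hgen : ⨆ i : Fin m, PicF2.zeroScheme L (s i) = ⊤)
    (U : Y.affineOpens) {ℓ : Γ(L, U.1)} (hℓ : InvBasic.IsBasis L ℓ) (g : Fin m → Γ(Y, U.1))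
    (hg : ∀ i, secv L (s i) U.1 = g i • ℓ) : Ideal.span (Set.range g) = ⊤ := by
  have h1 := congrFun (congrArg Scheme.IdealSheafData.ideal hgen) U
  rw [Scheme.IdealSheafData.ideal_top, Scheme.IdealSheafData.ideal_iSup, iSup_apply, Pi.top_apply] at h1
  rw [eq_top_iff, ← h1]
  refine iSup_le fun i => ?_
  rw [zeroScheme_ideal_eq_span L _ hL U hℓ (hg i)]
  exact Ideal.span_mono (Set.singleton_subset_iff.2 ⟨i, rfl⟩)

end Groth.Agent.BertiniZero
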