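import Groth.Agent.BertiniZero.Incidence

/-!
# Bertini theorems for sections on a smooth affine scheme
-/

set_option autoImplicit false

universe u

namespace Groth.Agent.BertiniZero

open KaehlerDifferential

variable {k : Type u} [Field k]

/-- The quotient by a function with nonvanishing differential is smooth. -/
theorem isSmoothAt_quotient {A : Type u} [CommRing A] [Algebra k A] [Algebra.FinitePresentation k A] (a : A)
    (q : Ideal (A ⧸ Ideal.span {a})) [q.IsPrime] (h : A) (hh : h ∉ q.comap (Ideal.Quotient.mk _))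
    [Algebra.Smooth k (Localization.Away h)] {d : ℕ} {z : Fin d → Localization.Away h}
    (b : Module.Basis (Fin d) (Localization.Away h) Ω[Localization.Away h⁄k]) (hb : ∀ t, b t = D k _ (z t)) (t₀ : Fin d)
    (ht₀ : b.repr (D k _ (algebraMap A (Localization.Away h) a)) t₀ ∉
      (q.comap (Ideal.Quotient.mk (Ideal.span {a}))).map (algebraMap A (Localization.Away h))) :
    Algebra.IsSmoothAt k q := by
  classical
  let p : Ideal A := q.comap (Ideal.Quotient.mk _)
  haveI : p.IsPrime := Ideal.IsPrime.comap _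
  let B := Localization.Away h
  obtain ⟨m, rfl⟩ : ∃ m, d = m + 1 := ⟨d - 1, by have := t₀.isLt; omega⟩
  let c := b.repr (D k B (algebraMap A B a)) t₀
  let B' := Localization.Away c
  haveI : Algebra.Smooth k B' := Algebra.Smooth.comp k B B'
  let b₁ : Module.Basis (Fin (m + 1)) B' Ω[B'⁄k] :=
    b.ofIsLocalizedModule B' (Submonoid.powers c) (map k k B B')
  have hb₁ : ∀ t, b₁ t = D k B' (algebraMap B B' (z t)) := fun t => by
    rw [show b₁ t = map k k B B' (b t) from Module.Basis.ofIsLocalizedModule_apply .., hb]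
    exact KaehlerDifferential.map_D k k B B' _
  let hc : B' := algebraMap B B' (algebraMap A B a)
  have hc₁ : D k B' hc = ∑ t, algebraMap B B' (b.repr (D k B (algebraMap A B a)) t) • b₁ t := by
    conv_lhs => rw [show D k B' hc = map k k B B' (D k B (algebraMap A B a)) by simp [hc],
      ← b.sum_repr (D k B (algebraMap A B a)), map_sum]
    refine Finset.sum_congr rfl fun t _ => ?_
    rw [map_smul, show map k k B B' (b t) = b₁ t from
      (Module.Basis.ofIsLocalizedModule_apply ..).symm]
    exact (algebraMap_smul B' (b.repr (D k B (algebraMap A B a)) t) (b₁ t)).symm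
  let z₂ : Fin (m + 1) → B' := Function.update (fun t => algebraMap B B' (z t)) t₀ hc
  let L : Ω[B'⁄k] →ₗ[B'] Ω[B'⁄k] := b₁.constr B' fun t => D k B' (z₂ t)
  have hL : Function.Surjective L := by
    rw [← LinearMap.range_eq_top, Module.Basis.constr_range, eq_top_iff, ← b₁.span_eq,
      Submodule.span_le]
    rintro _ ⟨t, rfl⟩
    set S := Submodule.span B' (Set.range fun t => D k B' (z₂ t))
    have hne : ∀ t, t ≠ t₀ → b₁ t ∈ S := fun t ht => Submodule.subset_span
      ⟨t, by simp [z₂, Function.update_of_ne ht, hb₁]⟩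
    by_cases ht : t = t₀
    · subst ht
      have h1 : D k B' hc ∈ S := Submodule.subset_span ⟨t, by simp [z₂]⟩
      rw [hc₁, Finset.sum_eq_add_sum_sdiff_singleton_of_mem (Finset.mem_univ t)] at h1
      rw [S.add_mem_iff_left (Submodule.sum_mem _ fun s hs =>
        S.smul_mem _ (hne s (by simpa using (Finset.mem_sdiff.1 hs).2)))] at h1
      exact (Submodule.smul_mem_iff_of_isUnit S
        (IsLocalization.Away.algebraMap_isUnit (S := B') c)).1 h1
    · exact hne t ht
  haveI : Module.Finite B' Ω[B'⁄k] := Module.Finite.of_basis b₁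
  let b₂ := b₁.map (LinearEquiv.ofBijective L
    (OrzechProperty.bijective_of_surjective_endomorphism L hL))
  have hb₂ : ∀ t, b₂ t = D k B' (z₂ t) := fun t => by
    rw [Module.Basis.map_apply]
    exact b₁.constr_basis B' _ t
  let b₃ := b₂.reindex (Equiv.swap 0 t₀)
  have hE := BertiniAff.isStandardSmooth_quotient_of_coord (z := z₂ ∘ Equiv.swap 0 t₀) b₃ (fun t => by
    simp [b₃, Module.Basis.reindex_apply, hb₂])
  let f₁ := h * (IsLocalization.Away.sec h c).1
  haveI hloc : IsLocalization.Away f₁ B' := IsLocalization.Away.mul_of_associated (S := B) _ _ c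
    (IsLocalization.Away.associated_sec_fst h c)
  have hsec : (IsLocalization.Away.sec h c).1 ∉ p := by
    intro hm
    refine ht₀ ((Ideal.mem_iff_of_associated
      (IsLocalization.Away.associated_sec_fst h c)).1 ?_)
    exact Ideal.mem_map_of_mem _ hm
  have hmap : (Ideal.span {a}).map (algebraMap A B') =
      Ideal.span {(z₂ ∘ Equiv.swap 0 t₀) 0} := by
    rw [Ideal.map_span, Set.image_singleton]
    simp [z₂, hc, IsScalarTower.algebraMap_apply A B B']
  haveI := Algebra.IsStandardSmoothOfRelativeDimension.of_algEquiv m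
    (R := k) (S := B' ⧸ Ideal.span {(z₂ ∘ Equiv.swap 0 t₀) 0})
    (T := B' ⧸ (Ideal.span {a}).map (algebraMap A B'))
    (Ideal.quotientEquivAlgOfEq k hmap.symm)
  haveI : IsLocalization.Away (Ideal.Quotient.mk (Ideal.span {a}) f₁)
      (B' ⧸ (Ideal.span {a}).map (algebraMap A B')) := by
    show IsLocalization (Submonoid.powers _) _
    have h1 : IsLocalization (Algebra.algebraMapSubmonoid (A ⧸ Ideal.span {a})
        (Submonoid.powers f₁)) (B' ⧸ (Ideal.span {a}).map (algebraMap A B')) := inferInstance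
    rwa [Algebra.algebraMapSubmonoid, Submonoid.map_powers] at h1
  haveI : IsScalarTower k (A ⧸ Ideal.span {a})
      (B' ⧸ (Ideal.span {a}).map (algebraMap A B')) :=
    IsScalarTower.of_algebraMap_eq (R := k) (S := A ⧸ Ideal.span {a})
      (A := B' ⧸ (Ideal.span {a}).map (algebraMap A B')) fun c => by
        show Ideal.Quotient.mk _ (algebraMap k B' c) = Ideal.Quotient.mk _ _
        exact congrArg _ (IsScalarTower.algebraMap_apply k A B' c)
  let eloc := (IsLocalization.algEquiv (Submonoid.powers (Ideal.Quotient.mk (Ideal.span {a}) f₁))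
    (B' ⧸ (Ideal.span {a}).map (algebraMap A B'))
    (Localization.Away (Ideal.Quotient.mk (Ideal.span {a}) f₁))).restrictScalars k
  haveI hfin := Algebra.IsStandardSmoothOfRelativeDimension.of_algEquiv m
    (R := k) (S := B' ⧸ (Ideal.span {a}).map (algebraMap A B'))
    (T := Localization.Away (Ideal.Quotient.mk (Ideal.span {a}) f₁)) eloc
  haveI : Algebra.IsStandardSmooth k (Localization.Away (Ideal.Quotient.mk (Ideal.span {a}) f₁)) :=
    Algebra.IsStandardSmoothOfRelativeDimension.isStandardSmooth m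
  haveI : Algebra.FinitePresentation k (A ⧸ Ideal.span {a}) :=
    Algebra.FinitePresentation.quotient (Submodule.fg_span_singleton a)
  have hsub := Algebra.basicOpen_subset_smoothLocus_iff_smooth.2
    (inferInstance : Algebra.Smooth k (Localization.Away (Ideal.Quotient.mk (Ideal.span {a}) f₁)))
  exact hsub (a := (⟨q, ‹_›⟩ : PrimeSpectrum (A ⧸ Ideal.span {a}))) (‹p.IsPrime›.mul_notMem hh hsec)

/-- Assembling the pieces. -/
theorem exists_poly_smooth_quotient {A : Type u} [CommRing A] [Algebra k A] [Algebra.Smooth k A] {m : ℕ} (g₀ : A)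
    (g : Fin m → A)
    (hpiece : ∀ (h : A) [Algebra.Smooth k (Localization.Away h)] (d : ℕ) (z : Fin d → Localization.Away h)
      (b : Module.Basis (Fin d) (Localization.Away h) Ω[Localization.Away h⁄k]), (∀ t, b t = D k _ (z t)) →
      ∀ (L : Type u) [Field L] [Algebra k L] [Algebra.EssFiniteType k L] (ι : Localization.Away h →ₐ[k] L)
        (x : Fin m → L),
        (ι (algebraMap A _ g₀) + ∑ i, x i * ι (algebraMap A _ (g i)) = 0) →
        (∀ t, ι (b.repr (D k _ (algebraMap A _ g₀)) t) +
          ∑ i, x i * ι (b.repr (D k _ (algebraMap A _ (g i))) t) = 0) →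
        ¬ AlgebraicIndependent k x) :
    ∃ p : MvPolynomial (Fin m) k, p ≠ 0 ∧ ∀ a : Fin m → k, MvPolynomial.eval a p ≠ 0 →
      Algebra.Smooth k (A ⧸ Ideal.span {g₀ + ∑ i, algebraMap k A (a i) * g i}) := by
  classical
  haveI : Algebra.FiniteType k A := inferInstance
  haveI : IsNoetherianRing A := Algebra.FiniteType.isNoetherianRing k A
  obtain ⟨n, φ, hφ⟩ := Algebra.FiniteType.iff_quotient_mvPolynomial''.mp (‹Algebra.FiniteType k A›)
  let y : Fin n → A := fun i => φ (MvPolynomial.X i)
  have hy : Function.Surjective (MvPolynomial.aeval y : MvPolynomial (Fin n) k →ₐ[k] A) := by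
    rwa [show (MvPolynomial.aeval y : MvPolynomial (Fin n) k →ₐ[k] A) = φ from
      MvPolynomial.algHom_ext fun i => by simp [y]]
  obtain ⟨F, hFsub, hFspan⟩ := (Submodule.fg_span_iff_fg_span_finset_subset _).1
    (IsNoetherian.noetherian (Ideal.span (BertiniAff.pieces (k := k) y)))
  have hgood : ∀ h ∈ F, ∃ p : MvPolynomial (Fin m) k, p ≠ 0 ∧ ∀ a : Fin m → k, MvPolynomial.eval a p ≠ 0 →
      ∀ P : Ideal (Localization.Away h), P.IsPrime →
        algebraMap A _ (g₀ + ∑ i, algebraMap k A (a i) * g i) ∈ P →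
        ∃ (d : ℕ) (z : Fin d → Localization.Away h)
          (b : Module.Basis (Fin d) (Localization.Away h) Ω[Localization.Away h⁄k]),
          (∀ t, b t = D k _ (z t)) ∧
            ∃ t, b.repr (D k _ (algebraMap A (Localization.Away h) (g₀ + ∑ i, algebraMap k A (a i) * g i))) t ∉ P := by
    intro h hh
    obtain ⟨hsm, d, s, b, -, hb⟩ := hFsub hh
    haveI := hsm
    obtain ⟨p, hp, hp'⟩ := exists_poly_piece (algebraMap A (Localization.Away h) g₀)
      (fun i => algebraMap A (Localization.Away h) (g i)) b (hpiece h d _ b hb)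
    refine ⟨p, hp, fun a ha P hP hm => ⟨d, _, b, hb, ?_⟩⟩
    have e : algebraMap A (Localization.Away h) (g₀ + ∑ i, algebraMap k A (a i) * g i) =
        algebraMap A _ g₀ + ∑ i, algebraMap k (Localization.Away h) (a i) * algebraMap A _ (g i) := by
      simp [map_sum, ← IsScalarTower.algebraMap_apply]
    rw [e] at hm ⊢
    exact hp' a ha P hP hm
  choose! p hp hp' using hgood
  refine ⟨∏ h ∈ F, p h, Finset.prod_ne_zero_iff.2 hp, fun a ha => ?_⟩
  rw [map_prod, Finset.prod_ne_zero_iff] at ha
  set G := g₀ + ∑ i, algebraMap k A (a i) * g i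
  haveI : Algebra.FinitePresentation k (A ⧸ Ideal.span {G}) :=
    Algebra.FinitePresentation.quotient (Submodule.fg_span_singleton G)
  suffices Algebra.smoothLocus k (A ⧸ Ideal.span {G}) = Set.univ from
    ⟨Algebra.smoothLocus_eq_univ_iff.1 this, inferInstance⟩
  refine Set.eq_univ_of_forall fun ⟨q, hq⟩ => ?_
  let P₀ : Ideal A := q.comap (Ideal.Quotient.mk _)
  haveI : P₀.IsPrime := hq.comap _
  obtain ⟨h, hhp, hh⟩ : ∃ h, h ∉ P₀ ∧ h ∈ F := by
    obtain ⟨h, hh, hsm, hrest⟩ := BertiniAff.exists_piece y hy P₀ (f := 1)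
      (fun h1 => ‹P₀.IsPrime›.ne_top ((Ideal.eq_top_iff_one _).2 h1))
      (Algebra.Smooth.comp k A (Localization.Away (1 : A)))
    by_contra! hcon
    have h2 : h ∈ Ideal.span (BertiniAff.pieces (k := k) y) := Ideal.subset_span ⟨hsm, hrest⟩
    rw [Ideal.span, hFspan] at h2
    exact hh ((Submodule.span_le.2 fun y hy => not_not.1 fun e => hcon y e hy :
      Submodule.span A (F : Set A) ≤ P₀) h2)
  haveI : Algebra.Smooth k (Localization.Away h) := (hFsub hh).1
  have hdisj : Disjoint (Submonoid.powers h : Set A) (P₀ : Set A) :=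
    (Ideal.disjoint_powers_iff_notMem_of_isPrime _).2 hhp
  have hPp : (P₀.map (algebraMap A (Localization.Away h))).IsPrime :=
    IsLocalization.isPrime_of_isPrime_disjoint _ _ P₀ inferInstance hdisj
  have hmem : G ∈ P₀ := by
    rw [Ideal.mem_comap, show Ideal.Quotient.mk (Ideal.span {G}) G = 0 from
      Ideal.Quotient.eq_zero_iff_mem.2 (Ideal.subset_span rfl)]
    exact zero_mem _
  obtain ⟨d, z, b, hb, t₀, ht₀⟩ := hp' h hh a (ha h hh) _ hPp (Ideal.mem_map_of_mem _ hmem)
  exact isSmoothAt_quotient G q h hhp b hb t₀ ht₀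

theorem bertini_jets [IsAlgClosed k] {A : Type u} [CommRing A] [Algebra k A] [Algebra.Smooth k A] {m : ℕ} (g₀ : A)
    (g : Fin m → A)
    (hjet : ∀ P : Ideal A, P.IsMaximal → ∀ a : A, ∃ c : Fin m → k, a - ∑ i, algebraMap k A (c i) * g i ∈ P ^ 2) :
    ∃ p : MvPolynomial (Fin m) k, p ≠ 0 ∧ ∀ a : Fin m → k, MvPolynomial.eval a p ≠ 0 →
      Algebra.Smooth k (A ⧸ Ideal.span {g₀ + ∑ i, algebraMap k A (a i) * g i}) := by
  refine exists_poly_smooth_quotient g₀ g fun h _ d z b hb L _ _ _ ι x h0 h1 =>
    not_algebraicIndependent_jets b hb _ _ ?_ ι x h0 h1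
  intro P hP y
  let B := Localization.Away h
  let M : Ideal A := P.comap (algebraMap A B)
  haveI : IsJacobsonRing A := isJacobsonRing_of_finiteType (A := k)
  have hM : M.IsMaximal := ((IsLocalization.isMaximal_iff_isMaximal_disjoint (R := A) B h P).1 hP).1
  have hhM : h ∉ M := ((IsLocalization.isMaximal_iff_isMaximal_disjoint (R := A) B h P).1 hP).2
  obtain ⟨n, a, hya⟩ := IsLocalization.Away.surj h y
  obtain ⟨v, hv⟩ : ∃ v, v * h ^ n - 1 ∈ M ^ 2 := by
    have hsup : Ideal.span {h ^ n} ⊔ M ^ 2 = ⊤ := by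
      rw [← Ideal.span_singleton_pow]
      refine Ideal.pow_sup_pow_eq_top ?_
      exact hM.out.2 _ (by simpa [lt_iff_le_not_ge] using hhM)
    obtain ⟨u, hu, w, hw, huw⟩ := Submodule.mem_sup.1 (hsup.symm ▸ Submodule.mem_top : (1 : A) ∈ _)
    obtain ⟨v, rfl⟩ := Ideal.mem_span_singleton'.1 hu
    exact ⟨v, by rw [show v * h ^ n - 1 = -w by linear_combination huw]; exact neg_mem hw⟩
  obtain ⟨c, hc⟩ := hjet M hM (a * v)
  refine ⟨c, ?_⟩
  have h2 : ∀ r ∈ M ^ 2, algebraMap A B r ∈ P ^ 2 := fun r hr => by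
    have := Ideal.mem_map_of_mem (algebraMap A B) hr
    rw [Ideal.map_pow] at this
    exact Ideal.pow_right_mono Ideal.map_comap_le 2 this
  have e1 : algebraMap A B (a * v) - y = y * algebraMap A B (v * h ^ n - 1) := by
    rw [map_mul, map_sub, map_mul, map_pow, map_one, ← hya]; ring
  have e2 := h2 _ hc
  have e3 := (P ^ 2).sub_mem e2 (e1 ▸ (P ^ 2).mul_mem_left y (h2 _ hv) : algebraMap A B (a * v) - y ∈ P ^ 2)
  convert e3 using 1
  simp only [map_sub, map_sum, map_mul, ← IsScalarTower.algebraMap_apply]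
  ring

theorem bertini_generated [CharZero k] {A : Type u} [CommRing A] [Algebra k A] [Algebra.Smooth k A] {m : ℕ}
    (g : Fin m → A) (hgen : Ideal.span (Set.range g) = ⊤) :
    ∃ p : MvPolynomial (Fin m) k, p ≠ 0 ∧ ∀ a : Fin m → k, MvPolynomial.eval a p ≠ 0 →
      Algebra.Smooth k (A ⧸ Ideal.span {∑ i, algebraMap k A (a i) * g i}) := by
  obtain ⟨p, hp, h'⟩ := exists_poly_smooth_quotient (k := k) (A := A) (0 : A) g (by
    intro h _ d z b hb L _ _ _ ι x h0 h1
    refine not_algebraicIndependent_generated (z := z) b (algebraMap A (Localization.Away h) 0)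
      (fun i => algebraMap A (Localization.Away h) (g i)) (map_zero _) ?_ ι x h0 h1
    rw [show (fun i => algebraMap A (Localization.Away h) (g i)) = algebraMap A _ ∘ g from rfl, Set.range_comp,
      ← Ideal.map_span, hgen, Ideal.map_top])
  refine ⟨p, hp, fun a ha => ?_⟩
  have := h' a ha
  rwa [zero_add] at this

end Groth.Agent.BertiniZero
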